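import Cfsg.Agent.Lib.Blocks.Order443520.Conditions

/-!
# The search over candidates of order four, part 0
-/

set_option autoImplicit false
set_option maxRecDepth 100000

namespace CfsgLib.Blocks.Order443520

theorem checkRow_0 : checkRow 0 = true := by decide +kernel

theorem checkRow_1 : checkRow 1 = true := by decide +kernel

theorem checkRow_2 : checkRow 2 = true := by decide +kernel

theorem checkRow_3 : checkRow 3 = true := by decide +kernel

end CfsgLib.Blocks.Order443520
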