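import Cfsg.Agent.Lib.Blocks.Order443520.Conditions

/-!
# The search over candidates of order four, part 1
-/

set_option autoImplicit false
set_option maxRecDepth 100000

namespace CfsgLib.Blocks.Order443520

theorem checkRow_4 : checkRow 4 = true := by decide +kernel

theorem checkRow_5 : checkRow 5 = true := by decide +kernel

theorem checkRow_6 : checkRow 6 = true := by decide +kernel

theorem checkRow_7 : checkRow 7 = true := by decide +kernel

end CfsgLib.Blocks.Order443520
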