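import Cfsg.Agent.Lib.Blocks.Order443520.Conditions

/-!
# The search over candidates of order four, part 2
-/

set_option autoImplicit false
set_option maxRecDepth 100000

namespace CfsgLib.Blocks.Order443520

theorem checkRow_8 : checkRow 8 = true := by decide +kernel

theorem checkRow_9 : checkRow 9 = true := by decide +kernel

theorem checkRow_10 : checkRow 10 = true := by decide +kernel

theorem checkRow_11 : checkRow 11 = true := by decide +kernel

end CfsgLib.Blocks.Order443520
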