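import Cfsg.Agent.Lib.Blocks.Order443520.Conditions

/-!
# The search over candidates of order four, part 3
-/

set_option autoImplicit false
set_option maxRecDepth 100000

namespace CfsgLib.Blocks.Order443520

theorem checkRow_12 : checkRow 12 = true := by decide +kernel

theorem checkRow_13 : checkRow 13 = true := by decide +kernel

theorem checkRow_14 : checkRow 14 = true := by decide +kernel

theorem checkRow_15 : checkRow 15 = true := by decide +kernel

end CfsgLib.Blocks.Order443520
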