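import Cfsg.Agent.Lib.Blocks.Order443520.Conditions

/-!
# The search over candidates of order four, part 6
-/

set_option autoImplicit false
set_option maxRecDepth 100000

namespace CfsgLib.Blocks.Order443520

theorem checkRow_24 : checkRow 24 = true := by decide +kernel

theorem checkRow_25 : checkRow 25 = true := by decide +kernel

theorem checkRow_26 : checkRow 26 = true := by decide +kernel

theorem checkRow_27 : checkRow 27 = true := by decide +kernel

end CfsgLib.Blocks.Order443520
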