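import Cfsg.Agent.Lib.Blocks.Order443520.Conditions

/-!
# The search over candidates of order four, part 7
-/

set_option autoImplicit false
set_option maxRecDepth 100000

namespace CfsgLib.Blocks.Order443520

theorem checkRow_28 : checkRow 28 = true := by decide +kernel

theorem checkRow_29 : checkRow 29 = true := by decide +kernel

theorem checkRow_30 : checkRow 30 = true := by decide +kernel

theorem checkRow_31 : checkRow 31 = true := by decide +kernel

end CfsgLib.Blocks.Order443520
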